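import Groth.Prelude.Def_BlowUp2
import Groth.Agent.Lib.Ideal.EffCartier
import Groth.Agent.Lib.Ideal.Comap
import Groth.Agent.Lib.QCoh.Closure

/-!
# Kernel of the projection to a strict transform, for a locally principal ideal
-/

set_option autoImplicit false
set_option maxHeartbeats 1000000

noncomputable section

universe u

open CategoryTheory CategoryTheory.Limits AlgebraicGeometry TopologicalSpace Opposite

namespace Groth.Agent.Lib.StrictPush

open Groth.Agent Groth.Agent.Lib Groth.Agent.Lib.QCoh.Localizing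

variable {X : Scheme.{u}} {E : X.IdealSheafData} {P G : X.Modules} (π : P ⟶ G)

/-- The kernel of the projection to a strict transform is quasi-coherent. -/
theorem isQCoh_kernel_of_principal [P.IsQuasicoherent] (hE : ∀ x : X, ∃ W : X.affineOpens, x ∈ W.1 ∧ ∃ t, E.ideal W = Ideal.span {t})
    (hG : ∀ (V : X.affineOpens) (m : P.presheaf.obj (op V.1)),
      π.app V.1 m = 0 ↔ BlowUp.KilledByPowerNear E P V m) :
    (kernel π).IsQuasicoherent := by
  let S := ShortComplex.mk (kernel.ι π) π (kernel.condition π)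
  have hS : S.Exact := S.exact_of_f_is_kernel (kernelIsKernel π)
  haveI : Mono S.f := inferInstanceAs (Mono (kernel.ι π))
  refine isQCoh_of_forall_exists_localizes fun x => ?_
  obtain ⟨W, hxW, t, htW⟩ := hE x
  refine ⟨W.1, W.2, hxW, fun f => ⟨fun s => ?_, fun s hs => ?_⟩⟩
  · let D : X.affineOpens := ⟨X.basicOpen f, W.2.basicOpen f⟩
    obtain ⟨n, m, hm⟩ := (localizes_of_isAffineOpen P W.2 f).ext' (S.f.app D.1 s)
    obtain ⟨N, hN⟩ := (hG D (S.f.app D.1 s)).1 (QCoh.Closure.sections_comp (S := S) D.1 s)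
    have hz : res P (X.basicOpen_le f) (t ^ N • m) = 0 := by
      rw [res_smul, hm, smul_comm]
      refine Eq.trans (congrArg _ (hN _ ?_)) (smul_zero _)
      rw [Scheme.IdealSheafData.ideal_pow, Pi.pow_apply,
        Ideal.EffCartier.ideal_eq_span_of_le (V := D) (X.basicOpen_le f) htW,
        Ideal.span_singleton_pow, map_pow]
      exact Ideal.mem_span_singleton_self _
    obtain ⟨r, hr⟩ := (localizes_of_isAffineOpen P W.2 f).sep _ hz
    obtain ⟨s', hs'⟩ := QCoh.Closure.sections_exact hS W.1 (f ^ r • m) ((hG W _).2 ⟨N, fun a ha => by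
      rw [Scheme.IdealSheafData.ideal_pow, Pi.pow_apply, htW, Ideal.span_singleton_pow,
        Ideal.mem_span_singleton'] at ha
      obtain ⟨c, rfl⟩ := ha
      rw [mul_smul, smul_comm (t ^ N) (f ^ r), hr, smul_zero]⟩)
    refine ⟨r + n, s', QCoh.Closure.sections_injective_of_mono S.f _ ?_⟩
    rw [← res_app, hs', res_smul, hm, Scheme.Modules.Hom.app_smul, smul_smul, map_pow, pow_add]
  · obtain ⟨n, hn⟩ := (localizes_of_isAffineOpen P W.2 f).sep (S.f.app W.1 s)
      (by rw [res_app, hs, map_zero])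
    refine ⟨n, QCoh.Closure.sections_injective_of_mono S.f W.1 ?_⟩
    rw [Scheme.Modules.Hom.app_smul, hn, map_zero]

/-- A strict transform of a quasi-coherent module is quasi-coherent. -/
theorem isQCoh_of_principal [P.IsQuasicoherent] [Epi π] (hE : ∀ x : X, ∃ W : X.affineOpens, x ∈ W.1 ∧ ∃ t, E.ideal W = Ideal.span {t})
    (hG : ∀ (V : X.affineOpens) (m : P.presheaf.obj (op V.1)),
      π.app V.1 m = 0 ↔ BlowUp.KilledByPowerNear E P V m) :
    G.IsQuasicoherent := by
  let S := ShortComplex.mk (kernel.ι π) π (kernel.condition π)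
  haveI : S.X₁.IsQuasicoherent := isQCoh_kernel_of_principal π hE hG
  haveI : S.X₂.IsQuasicoherent := ‹P.IsQuasicoherent›
  haveI : Epi S.g := ‹Epi π›
  exact QCoh.Closure.isQCoh_of_exact_epi (S := S) (S.exact_of_f_is_kernel (kernelIsKernel π))

/-- The inverse image of an effective Cartier ideal is locally principal. -/
theorem exists_principal_comap {X' : Scheme.{u}} (f : X' ⟶ X) (hE : BlowUp.IsEffCartierIdeal E) (x : X') :
    ∃ W : X'.affineOpens, x ∈ W.1 ∧ ∃ t, (E.comap f).ideal W = Ideal.span {t} := by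
  obtain ⟨U, hxU, t, -, ht⟩ := hE (f x)
  obtain ⟨W, hW, hxW, hle⟩ := exists_isAffineOpen_mem_and_subset (show x ∈ f ⁻¹ᵁ U.1 from hxU)
  exact ⟨⟨W, hW⟩, hxW, f.appLE U.1 W hle t, by
    rw [Ideal.Comap.ideal_comap f E U ⟨W, hW⟩ hle, ht, Ideal.map_span, Set.image_singleton]⟩

end Groth.Agent.Lib.StrictPush
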